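import Cfsg.Agent.OddHalf.D9.Ru.XCover
import Cfsg.Agent.OddHalf.D9.Ru.XR
import Cfsg.Agent.KFacts.Ru.Core
import Cfsg.Agent.OddHalf.NI.Ex.Cut
import Cfsg.Agent.OddHalf.Table.OutRu
import Cfsg.Agent.RuLat.Hom

-- merged: Cfsg.Agent.OddHalf.NI3.Bad.ExRuK
section

/-!
# NIB, (EX4), the Rudvalis group: elements of order three in centralizers of involutions

`main`: let `z` be an involution of the Rudvalis group. Then no element of order three commutes with `z`, or there is a
2-group `B`, normal in the centralizer of `z`, such that for `b` of order three commuting with `z` there is `x ∈ B` such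
that `[x, b]` is not an involution.
-/

set_option autoImplicit false
set_option maxRecDepth 100000
set_option exponentiation.threshold 5000

namespace Cfsg.Agent.OddHalf.NI3.Bad.ExRuK

open Subgroup Cfsg.Agent.SporadicB Cfsg.Agent.SporadicB.RuOrder Cfsg.Agent.RuD.Letters
open Cfsg.Agent.SporRec.TCUpperCert Cfsg.Agent.OddHalf.D9.Ru
open Cfsg.Agent.OddHalf.D9.Ru.XDef Cfsg.Agent.OddHalf.D9.Ru.XChk Cfsg.Agent.OddHalf.D9.Ru.XLevel

/-- a word which moves a point is not trivial -/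
theorem V_ne {w : List ℕ} {p : ℕ} (hp : p < 4060) (h : Nat.beq (evalK (w.flatMap ex) p) p = false) : V w ≠ 1 := by
  intro h1
  have h2 := evalK_eq (w.flatMap ex) ⟨p, hp⟩
  rw [show wprod ml (w.flatMap ex) = (1 : RuOrder.H) from h1] at h2
  have h3 : evalK (w.flatMap ex) p = p := h2.symm
  rw [h3] at h
  have h4 : Nat.beq p p = true := Nat.beq_refl p
  rw [h4] at h
  exact absurd h (by decide)

theorem V_cons2 (a b : ℕ) (l : List ℕ) : V (a :: b :: l) = V [a] * V (b :: l) := V_cons a _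

/-- `s₁ T ∈ R` -/
theorem x_mem : V [1, 0] ∈ XR.R := XR.G_mem_R (l := [0]) rfl

theorem c1 : Nat.beq (evalK (([1, 0, 2, 0, 4, 5, 1, 0, 2, 0, 4, 5] : List ℕ).flatMap ex) 0) 0 = false := by decide +kernel
theorem c2 : Nat.beq (evalK (([1, 0, 5, 0, 4, 2, 1, 0, 5, 0, 4, 2] : List ℕ).flatMap ex) 0) 0 = false := by decide +kernel

/-- elements of order three are conjugate up to inversion if 9 does not divide the order -/
theorem conj_three {C : Type*} [Group C] [Finite C] (h9 : ¬ 9 ∣ Nat.card C) {b d : C} (hb : orderOf b = 3)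
    (hd : orderOf d = 3) : ∃ g : C, b = g * d * g⁻¹ ∨ b = g * d⁻¹ * g⁻¹ := by
  have : Fact (Nat.Prime 3) := ⟨Nat.prime_three⟩
  have syl : ∀ x : C, orderOf x = 3 → ∃ P : Sylow 3 C, (P : Subgroup C) = zpowers x := by
    intro x hx
    have hp : IsPGroup 3 (zpowers x) := IsPGroup.of_card (n := 1) (by rw [Nat.card_zpowers, hx, pow_one])
    obtain ⟨P, hP⟩ := hp.exists_le_sylow
    refine ⟨P, ?_⟩
    obtain ⟨k, hk⟩ := (IsPGroup.iff_card.1 P.isPGroup')
    have h1 : k ≤ 1 := by
      by_contra hlt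
      apply h9
      have h2 : (3 : ℕ) ^ 2 ∣ 3 ^ k := pow_dvd_pow 3 (by omega)
      rw [← hk] at h2
      exact h2.trans (Subgroup.card_subgroup_dvd_card _)
    symm
    apply Subgroup.eq_of_le_of_card_ge hP
    rw [Nat.card_zpowers, hx]
    have h3 : Nat.card ↥(P : Subgroup C) = 3 ^ k := hk
    rw [h3]
    calc 3 ^ k ≤ 3 ^ 1 := Nat.pow_le_pow_right (by norm_num) h1
      _ = 3 := pow_one 3
  obtain ⟨P, hP⟩ := syl b hb
  obtain ⟨Q, hQ⟩ := syl d hd
  obtain ⟨g, hg⟩ := MulAction.exists_smul_eq C Q P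
  have h1 : b ∈ (P : Subgroup C) := by rw [hP]; exact mem_zpowers b
  rw [← hg, Sylow.coe_subgroup_smul, Subgroup.mem_pointwise_smul_iff_inv_smul_mem, hQ] at h1
  have h2 : g⁻¹ * b * g ∈ zpowers d := by
    have : (MulAut.conj g)⁻¹ • b = g⁻¹ * b * g := by
      rw [← map_inv, MulAut.smul_def, MulAut.conj_apply, inv_inv]
    rw [← this]; exact h1
  obtain ⟨k, hk⟩ := mem_zpowers_iff.1 h2
  refine ⟨g, ?_⟩
  have e : b = g * (g⁻¹ * b * g) * g⁻¹ := by group
  have h3 : d ^ (k % 3) = d ^ k := by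
    have := zpow_mod_orderOf d k
    rwa [hd] at this
  have h4 : k % 3 = 0 ∨ k % 3 = 1 ∨ k % 3 = 2 := by omega
  rcases h4 with h4 | h4 | h4
  · exfalso
    rw [h4, zpow_zero] at h3
    rw [← h3] at hk
    have : b = 1 := by rw [e, ← hk]; group
    rw [this, orderOf_one] at hb
    exact absurd hb (by norm_num)
  · left
    rw [h4, zpow_one] at h3
    rw [e, ← hk, ← h3]
  · right
    have h5 : d ^ (2 : ℤ) = d⁻¹ := by
      rw [eq_inv_iff_mul_eq_one]
      calc d ^ (2 : ℤ) * d = d ^ (3 : ℤ) := by group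
        _ = d ^ (3 : ℕ) := by norm_cast
        _ = 1 := by rw [← hd, pow_orderOf_eq_one]
    rw [h4, h5] at h3
    rw [e, ← hk, ← h3]

/-- `B` is a 2-group normal in the centralizer of `z`, no element of order three centralizes it -/
structure Good (z : RuOrder.H) (B : Subgroup RuOrder.H) : Prop where
  two : IsPGroup 2 B
  comm : ∀ x ∈ B, x * z = z * x
  nor : ∀ g : RuOrder.H, g * z = z * g → ∀ x ∈ B, g * x * g⁻¹ ∈ B
  three : ∀ b : RuOrder.H, b * z = z * b → b * b * b = 1 → b ≠ 1 → ∃ x ∈ B, x * b * x⁻¹ * b⁻¹ * (x * b * x⁻¹ * b⁻¹) ≠ 1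

theorem Good.conj {z : RuOrder.H} {B : Subgroup RuOrder.H} (h : Good z B) (g : RuOrder.H) :
    Good (g * z * g⁻¹) (B.map (MulAut.conj g).toMonoidHom) where
  two := h.two.map _
  comm := by
    rintro _ ⟨y, hy, rfl⟩
    show g * y * g⁻¹ * (g * z * g⁻¹) = g * z * g⁻¹ * (g * y * g⁻¹)
    calc g * y * g⁻¹ * (g * z * g⁻¹) = g * (y * z) * g⁻¹ := by group
      _ = g * (z * y) * g⁻¹ := by rw [h.comm y hy]
      _ = _ := by group
  nor := by
    rintro k hk _ ⟨y, hy, rfl⟩
    refine ⟨g⁻¹ * k * g * y * (g⁻¹ * k * g)⁻¹, h.nor (g⁻¹ * k * g) ?_ y hy, ?_⟩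
    · calc g⁻¹ * k * g * z = g⁻¹ * (k * (g * z * g⁻¹)) * g := by group
        _ = g⁻¹ * (g * z * g⁻¹ * k) * g := by rw [hk]
        _ = _ := by group
    · show g * (g⁻¹ * k * g * y * (g⁻¹ * k * g)⁻¹) * g⁻¹ = k * (g * y * g⁻¹) * k⁻¹
      group
  three := by
    intro b hbz hb hb1
    obtain ⟨x, hx, h4⟩ := h.three (g⁻¹ * b * g)
      (by
        calc g⁻¹ * b * g * z = g⁻¹ * (b * (g * z * g⁻¹)) * g := by group
          _ = g⁻¹ * (g * z * g⁻¹ * b) * g := by rw [hbz]
          _ = _ := by group)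
      (by
        calc g⁻¹ * b * g * (g⁻¹ * b * g) * (g⁻¹ * b * g) = g⁻¹ * (b * b * b) * g := by group
          _ = 1 := by rw [hb]; group)
      (by
        intro h1
        apply hb1
        calc b = g * (g⁻¹ * b * g) * g⁻¹ := by group
          _ = 1 := by rw [h1]; group)
    refine ⟨g * x * g⁻¹, ⟨x, hx, rfl⟩, fun h5 => h4 ?_⟩
    calc x * (g⁻¹ * b * g) * x⁻¹ * (g⁻¹ * b * g)⁻¹ * (x * (g⁻¹ * b * g) * x⁻¹ * (g⁻¹ * b * g)⁻¹) =
        g⁻¹ * (g * x * g⁻¹ * b * (g * x * g⁻¹)⁻¹ * b⁻¹ * (g * x * g⁻¹ * b * (g * x * g⁻¹)⁻¹ * b⁻¹)) * g := by group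
      _ = 1 := by rw [h5]; group

/-- `R` is normal in the centralizer of `S * S` -/
theorem R_norm {g : RuOrder.H} (hg : g ∈ centralizer ({S * S} : Set RuOrder.H)) {r : RuOrder.H} (hr : r ∈ XR.R) :
    g * r * g⁻¹ ∈ XR.R := by
  -- `h R h ≤ R`
  have key : ∀ r ∈ XR.R, XCover.h * r * XCover.h ∈ XR.R := by
    have h1 := XR.R_max (XR.R.map (MulAut.conj XCover.h).toMonoidHom) ?_ (XR.R_two.map _) ?_
    · intro r hr
      have h2 := h1 (mem_map_of_mem _ hr)
      have h3 : (MulAut.conj XCover.h).toMonoidHom r = XCover.h * r * XCover.h⁻¹ := rfl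
      rwa [h3, XCover.h_inv] at h2
    · rintro _ ⟨y, hy, rfl⟩
      show XCover.h * y * XCover.h⁻¹ ∈ P1
      rw [XCover.h_inv]
      exact XCover.conj_h y (XR.R_le hy)
    · rintro k hk _ ⟨y, hy, rfl⟩
      refine ⟨XCover.h * k * XCover.h * y * (XCover.h * k * XCover.h)⁻¹, XR.R_nor _ (XCover.conj_h k hk) y hy, ?_⟩
      show XCover.h * (XCover.h * k * XCover.h * y * (XCover.h * k * XCover.h)⁻¹) * XCover.h⁻¹ =
        k * (XCover.h * y * XCover.h⁻¹) * k⁻¹
      have hh := XCover.hh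
      calc XCover.h * (XCover.h * k * XCover.h * y * (XCover.h * k * XCover.h)⁻¹) * XCover.h⁻¹ =
          (XCover.h * XCover.h) * k * XCover.h * y * XCover.h⁻¹ * k⁻¹ * (XCover.h * XCover.h)⁻¹ := by group
        _ = _ := by rw [hh]; group
  rw [← XCover.M_eq] at hg
  rcases XCover.mem_M.1 hg with h1 | h1
  · exact XR.R_nor g h1 r hr
  · have h2 := key _ (XR.R_nor _ h1 r hr)
    have e : XCover.h * (XCover.h * g * r * (XCover.h * g)⁻¹) * XCover.h = g * r * g⁻¹ := by
      have hh := XCover.hh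
      calc XCover.h * (XCover.h * g * r * (XCover.h * g)⁻¹) * XCover.h = (XCover.h * XCover.h) * (g * r * g⁻¹) * XCover.h⁻¹ * XCover.h := by group
        _ = _ := by rw [hh]; group
    rwa [e] at h2

theorem D_three : D * D * D = 1 := Cfsg.Agent.KFacts.Ru.lets_model.d3

theorem D_ne : D ≠ 1 := by
  intro h
  have h1 := Cfsg.Agent.KFacts.Ru.lets_model.vv_ne (a := (1, 1)) (by decide)
  apply h1
  rw [Cfsg.Agent.KFacts.Ru.vv_11, h]
  have := Cfsg.Agent.KFacts.Ru.lets_model.tsq
  rw [one_mul, inv_one, mul_one, this]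

theorem goodD : V [1, 0] * D * (V [1, 0])⁻¹ * D⁻¹ * (V [1, 0] * D * (V [1, 0])⁻¹ * D⁻¹) ≠ 1 := by
  have h := V_ne (by norm_num) c1
  intro h1
  apply h
  rw [← h1]
  have e1 : V [1, 0] = S1 * T := by rw [V_cons, V0, V1]
  have e2 : V [1, 0, 2, 0, 4, 5, 1, 0, 2, 0, 4, 5] = S1 * (T * (D * (T * (S1⁻¹ * (D⁻¹ * (S1 * (T * (D * (T * (S1⁻¹ * D⁻¹)))))))))) := by
    simp only [V_cons2, V0, V1, V2, V4, V5]
  have hT : T⁻¹ = T := XCover.T_inv
  rw [e1, e2, mul_inv_rev, hT]
  group

theorem goodD' : V [1, 0] * D⁻¹ * (V [1, 0])⁻¹ * D⁻¹⁻¹ * (V [1, 0] * D⁻¹ * (V [1, 0])⁻¹ * D⁻¹⁻¹) ≠ 1 := by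
  have h := V_ne (by norm_num) c2
  intro h1
  apply h
  rw [← h1]
  have e1 : V [1, 0] = S1 * T := by rw [V_cons, V0, V1]
  have e2 : V [1, 0, 5, 0, 4, 2, 1, 0, 5, 0, 4, 2] = S1 * (T * (D⁻¹ * (T * (S1⁻¹ * (D * (S1 * (T * (D⁻¹ * (T * (S1⁻¹ * D)))))))))) := by
    simp only [V_cons2, V0, V1, V2, V4, V5]
  have hT : T⁻¹ = T := XCover.T_inv
  rw [e1, e2, mul_inv_rev, hT, inv_inv]
  group

/-- the centralizer of `T` has no element of order three -/
theorem cent_T {b : RuOrder.H} (hb : b * b * b = 1) (hbT : b * T = T * b) : b = 1 := by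
  obtain ⟨C, -, hL, hv, -, -, -⟩ := Cfsg.Agent.KFacts.Ru.lets_model.exists_core
  have h10 : C.v (1, 0) = T := by rw [hv, Cfsg.Agent.KFacts.Ru.vv_one0]
  obtain ⟨a, l, hl, rfl⟩ := C.cent (1, 0) (by decide) b (by rw [h10]; exact hbT)
  have hvl := C.v_comm a l hl
  have e3 : ∀ a : Cfsg.Agent.RuB.A4, a + a + a = a := by decide
  have h3 : C.v a * l * (C.v a * l) * (C.v a * l) = C.v a * (l * l * l) := by
    calc C.v a * l * (C.v a * l) * (C.v a * l) = C.v a * (l * C.v a) * (l * (C.v a * l)) := by group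
      _ = C.v a * (C.v a * l) * (l * (C.v a * l)) := by rw [← hvl]
      _ = C.v a * C.v a * (l * l * C.v a) * l := by group
      _ = C.v a * C.v a * (C.v a * (l * l)) * l := by
        rw [C.v_comm a (l * l) (C.L.mul_mem hl hl)]
      _ = C.v a * C.v a * C.v a * (l * l * l) := by group
      _ = C.v a * (l * l * l) := by rw [← C.v_add, ← C.v_add, e3]
  rw [h3] at hb
  have h4 : a = 0 := by
    apply C.v_notin a
    rw [eq_inv_of_mul_eq_one_left hb]
    exact C.L.inv_mem (C.L.mul_mem (C.L.mul_mem hl hl) hl)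
  subst h4
  have hv0 : C.v 0 = 1 := by
    have := C.v_add 0 0
    rw [add_zero] at this
    exact left_eq_mul.mp this
  rw [hv0, one_mul] at hb
  rw [hv0, one_mul]
  -- the order of `l` divides 3 and 29120
  have hc : Nat.card C.L = 29120 := by rw [hL]; exact Cfsg.Agent.KFacts.Ru.lets_model.card_L
  have h5 : orderOf (⟨l, hl⟩ : C.L) ∣ 3 := by
    apply orderOf_dvd_of_pow_eq_one
    apply Subtype.ext
    show l ^ 3 = 1
    rw [pow_succ, pow_two, hb]
  have h6 : orderOf (⟨l, hl⟩ : C.L) ∣ 29120 := by rw [← hc]; exact orderOf_dvd_natCard _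
  have h7 : orderOf (⟨l, hl⟩ : C.L) ∣ Nat.gcd 3 29120 := Nat.dvd_gcd h5 h6
  have h8 : orderOf (⟨l, hl⟩ : C.L) = 1 := Nat.dvd_one.1 (h7.trans (by norm_num))
  exact congrArg Subtype.val (orderOf_eq_one_iff.1 h8)

theorem good_SS : Good (S * S) XR.R where
  two := XR.R_two
  comm := fun x hx => XR.z_comm x (XR.R_le hx)
  nor := fun g hg x hx => R_norm (mem_centralizer_singleton_iff.2 hg) hx
  three := by
    intro b hbz hb hb1
    have hbm : b ∈ centralizer ({S * S} : Set RuOrder.H) := mem_centralizer_singleton_iff.2 hbz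
    have hDm : D ∈ centralizer ({S * S} : Set RuOrder.H) := XCover.P1_le D_mem
    have ord : ∀ (x : RuOrder.H) (hx : x ∈ centralizer ({S * S} : Set RuOrder.H)), x * x * x = 1 → x ≠ 1 →
        orderOf (⟨x, hx⟩ : centralizer ({S * S} : Set RuOrder.H)) = 3 := by
      intro x hx h3 h1
      apply orderOf_eq_prime
      · apply Subtype.ext
        show x ^ 3 = 1
        rw [pow_succ, pow_two, h3]
      · intro h
        exact h1 (congrArg Subtype.val h)
    obtain ⟨k, hk⟩ := conj_three (by rw [XCover.card_cent]; decide) (ord b hbm hb hb1) (ord D hDm D_three D_ne)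
    refine ⟨k * V [1, 0] * (k : RuOrder.H)⁻¹, R_norm k.2 x_mem, ?_⟩
    rcases hk with hk | hk
    · have h1 : b = k * D * (k : RuOrder.H)⁻¹ := congrArg Subtype.val hk
      intro h2
      apply goodD
      rw [h1] at h2
      generalize V [1, 0] = x at *
      calc x * D * x⁻¹ * D⁻¹ * (x * D * x⁻¹ * D⁻¹) = (k : RuOrder.H)⁻¹ * (k * x * (k : RuOrder.H)⁻¹ * (k * D * (k : RuOrder.H)⁻¹) *
            (k * x * (k : RuOrder.H)⁻¹)⁻¹ * (k * D * (k : RuOrder.H)⁻¹)⁻¹ * (k * x * (k : RuOrder.H)⁻¹ *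
            (k * D * (k : RuOrder.H)⁻¹) * (k * x * (k : RuOrder.H)⁻¹)⁻¹ * (k * D * (k : RuOrder.H)⁻¹)⁻¹)) * k := by group
        _ = 1 := by rw [h2]; group
    · have h1 : b = k * D⁻¹ * (k : RuOrder.H)⁻¹ := congrArg Subtype.val hk
      intro h2
      apply goodD'
      rw [h1] at h2
      generalize V [1, 0] = x at *
      calc x * D⁻¹ * x⁻¹ * D⁻¹⁻¹ * (x * D⁻¹ * x⁻¹ * D⁻¹⁻¹) = (k : RuOrder.H)⁻¹ * (k * x * (k : RuOrder.H)⁻¹ *
            (k * D⁻¹ * (k : RuOrder.H)⁻¹) * (k * x * (k : RuOrder.H)⁻¹)⁻¹ * (k * D⁻¹ * (k : RuOrder.H)⁻¹)⁻¹ *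
            (k * x * (k : RuOrder.H)⁻¹ * (k * D⁻¹ * (k : RuOrder.H)⁻¹) * (k * x * (k : RuOrder.H)⁻¹)⁻¹ *
            (k * D⁻¹ * (k : RuOrder.H)⁻¹)⁻¹)) * k := by group
        _ = 1 := by rw [h2]; group

/-- **the fact**: every involution `z` is in the class 2A and there is `B` with `Good z B`, or no element of order
three commutes with `z` -/
theorem main {z : RuOrder.H} (hz : z * z = 1) (hz1 : z ≠ 1) :
    (∃ B, Good z B) ∨ ∀ b : RuOrder.H, b * z = z * b → b * b * b = 1 → b = 1 := by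
  rcases isConj_or hz hz1 with h | h
  · obtain ⟨g, rfl⟩ := isConj_iff.1 h
    exact Or.inl ⟨_, good_SS.conj g⟩
  · right
    intro b hbz hb
    obtain ⟨g, rfl⟩ := isConj_iff.1 h
    have h1 : g⁻¹ * b * g = 1 := by
      apply cent_T
      · calc g⁻¹ * b * g * (g⁻¹ * b * g) * (g⁻¹ * b * g) = g⁻¹ * (b * b * b) * g := by group
          _ = 1 := by rw [hb]; group
      · calc g⁻¹ * b * g * T = g⁻¹ * (b * (g * T * g⁻¹)) * g := by group
          _ = g⁻¹ * (g * T * g⁻¹ * b) * g := by rw [hbz]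
          _ = _ := by group
    calc b = g * (g⁻¹ * b * g) * g⁻¹ := by group
      _ = 1 := by rw [h1]; group

end Cfsg.Agent.OddHalf.NI3.Bad.ExRuK

end

-- merged: Cfsg.Agent.OddHalf.NI.Ex.RowRu
section

/-!
# (EX): the row `Ru`

`noL2`: no involutory automorphism of the Rudvalis group has a component `L₂(q)`: the automorphisms are inner, the
centralizer of an involution of class 2B has no element of order three, the elements of order three in the centralizer
of an involution of class 2A do not centralize its largest normal 2-subgroup.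
-/

set_option autoImplicit false

namespace Cfsg.Agent.OddHalf.NI.Ex.RowRu

open Subgroup Cfsg Cfsg.Agent.OddHalf.NI.Ex Cfsg.Agent.SporadicB

universe u

/-- `PSL₂(F)` has an element of order three -/
theorem exists_three {F : Type*} [Field F] :
    ∃ b : Matrix.ProjectiveSpecialLinearGroup (Fin 2) F, b * b * b = 1 ∧ b ≠ 1 := by
  let m : Matrix.SpecialLinearGroup (Fin 2) F := ⟨!![0, 1; -1, -1], by rw [Matrix.det_fin_two_of]; ring⟩
  let u : Matrix.SpecialLinearGroup (Fin 2) F := ⟨!![1, 1; 0, 1], by rw [Matrix.det_fin_two_of]; ring⟩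
  refine ⟨QuotientGroup.mk m, ?_, ?_⟩
  · have h : m * m * m = 1 := by
      apply Subtype.ext
      show (!![0, 1; -1, -1] : Matrix (Fin 2) (Fin 2) F) * !![0, 1; -1, -1] * !![0, 1; -1, -1] = 1
      ext i j
      fin_cases i <;> fin_cases j <;> simp [Matrix.mul_apply, Fin.sum_univ_two]
    rw [← QuotientGroup.mk_mul, ← QuotientGroup.mk_mul, h, QuotientGroup.mk_one]
  · intro h
    rw [QuotientGroup.eq_one_iff] at h
    have h1 := mem_center_iff.1 h u
    have h2 : (!![1, 1; 0, 1] : Matrix (Fin 2) (Fin 2) F) * !![0, 1; -1, -1] = !![0, 1; -1, -1] * !![1, 1; 0, 1] :=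
      congrArg Subtype.val h1
    have h3 := congrFun (congrFun h2 0) 0
    simp [Matrix.mul_apply, Fin.sum_univ_two] at h3

/-- every automorphism is inner -/
theorem exists_inner {X : Type u} [Group X] (e : X ≃* RuOrder.H) (α : MulAut X) : ∃ g : X, ∀ x, α x = g * x * g⁻¹ := by
  obtain ⟨g, hg⟩ := Cfsg.Agent.OddHalf.Table.OutRu.inner ((e.symm.trans α).trans e)
  refine ⟨e.symm g, fun x => ?_⟩
  have h1 := congrArg (fun β : MulAut RuOrder.H => e.symm (β (e x))) hg
  simp only [MulEquiv.trans_apply, MulEquiv.symm_apply_apply, MulAut.conj_apply, map_mul, map_inv] at h1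
  exact h1

theorem noL2_of {X : Type u} [Group X] [Finite X] (e : X ≃* RuOrder.H) : NoL2 X := by
  rintro α hα J hJ ⟨F, _, _, hodd, h3, ⟨θ⟩⟩
  obtain ⟨u, hu⟩ := exists_inner e α
  have hcen : ∀ c : X, (∀ x, c * x = x * c) → c = 1 := by
    intro c hc
    apply e.injective
    rw [map_one]
    have h1 : e c ∈ center RuOrder.H := mem_center_iff.2 fun y => by
      have h2 := congrArg e (hc (e.symm y))
      rw [map_mul, map_mul, e.apply_symm_apply] at h2
      exact h2.symm
    rw [Cfsg.Agent.RuLat.center_H, mem_bot] at h1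
    exact h1
  -- `u` is an involution
  have haa : ∀ x, α (α x) = x := by
    intro x
    have h1 : α * α = 1 := by rw [← pow_two, ← hα, pow_orderOf_eq_one]
    rw [← MulAut.mul_apply, h1, MulAut.one_apply]
  have huu : u * u = 1 := by
    apply hcen
    intro x
    have h1 := haa x
    rw [hu, hu] at h1
    calc u * u * x = (u * (u * x * u⁻¹) * u⁻¹) * (u * u) := by group
      _ = _ := by rw [h1]
  have hu1 : u ≠ 1 := by
    rintro rfl
    have h1 : α = 1 := by
      ext x
      rw [hu, MulAut.one_apply]; group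
    rw [h1, orderOf_one] at hα
    omega
  have hmem : ∀ x, x ∈ fix α ↔ x * u = u * x := by
    intro x
    rw [mem_fix, hu, mul_inv_eq_iff_eq_mul]
    exact eq_comm
  -- an element of order three in `J`
  obtain ⟨b₀, hb₀, hb₁⟩ := exists_three (F := F)
  obtain ⟨b, hb⟩ : ∃ b : ↥J, b = θ.symm b₀ := ⟨_, rfl⟩
  have hb3 : (b : X) * b * b = 1 := by
    have h1 : b * b * b = 1 := by rw [hb, ← map_mul, ← map_mul, hb₀, map_one]
    exact congrArg Subtype.val h1
  have hbne : (b : X) ≠ 1 := by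
    intro h
    have h1 : b = 1 := Subtype.ext h
    rw [hb] at h1
    exact hb₁ (θ.symm.injective (by rw [h1, map_one]))
  have hbu : (b : X) * u = u * b := (hmem b).1 (hJ.le b.2)
  have ebu : e b * e u = e u * e b := by rw [← map_mul, hbu, map_mul]
  have eb3 : e b * e b * e b = 1 := by rw [← map_mul, ← map_mul, hb3, map_one]
  have ebne : e b ≠ 1 := fun h => hbne (e.injective (by rw [h, map_one]))
  rcases Cfsg.Agent.OddHalf.NI3.Bad.ExRuK.main (z := e u) (by rw [← map_mul, huu, map_one])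
    (fun h => hu1 (e.injective (by rw [h, map_one]))) with ⟨B, hB⟩ | h
  · obtain ⟨y, hy, hne⟩ := hB.three (e b) ebu eb3 ebne
    apply hne
    -- `B` commutes with the component
    have hcomm : e.symm y * b = b * e.symm y := by
      let Q : Subgroup X := B.comap e.toMonoidHom
      have hQm : ∀ q, q ∈ Q ↔ e q ∈ B := fun q => Iff.rfl
      have hQ2 : IsPGroup 2 Q := hB.two.comap_of_injective _ e.injective
      have hQf : Q ≤ fix α := by
        intro q hq
        rw [hmem]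
        apply e.injective
        rw [map_mul, map_mul]
        exact hB.comm _ hq
      have h2 : IsPGroup 2 ↥(Q.subgroupOf (fix α)) := hQ2.comap_of_injective _ (fix α).subtype_injective
      have : Group.IsNilpotent ↥(Q.subgroupOf (fix α)) := by
        have : Fact (Nat.Prime 2) := ⟨Nat.prime_two⟩
        exact h2.isNilpotent
      have h3 := Cfsg.Agent.Lib.ComponentSolvable.commutator_component_solvable_eq_bot hJ.comp
        (R := Q.subgroupOf (fix α)) inferInstance (by
          intro x _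
          rw [mem_normalizer_iff]
          have key : ∀ (x y : ↥(fix α)), y ∈ Q.subgroupOf (fix α) → x * y * x⁻¹ ∈ Q.subgroupOf (fix α) := by
            intro x y hy
            rw [mem_subgroupOf, hQm] at hy ⊢
            have hx : e (x : X) * e u = e u * e (x : X) := by
              rw [← map_mul, (hmem x).1 x.2, map_mul]
            have h5 := hB.nor _ hx _ hy
            rw [coe_mul, coe_mul, coe_inv, map_mul, map_mul, map_inv]
            exact h5
          intro y
          refine ⟨key x y, fun h => ?_⟩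
          have h4 := key x⁻¹ _ h
          rwa [inv_inv, show x⁻¹ * (x * y * x⁻¹) * x = y by group] at h4)
      have hyQ : e.symm y ∈ Q := by rw [hQm, e.apply_symm_apply]; exact hy
      have h4 := commutator_mem_commutator (g₁ := (⟨b, hJ.le b.2⟩ : ↥(fix α))) (g₂ := ⟨e.symm y, hQf hyQ⟩)
        (H₁ := J.subgroupOf (fix α)) (H₂ := Q.subgroupOf (fix α)) (mem_subgroupOf.2 b.2) (mem_subgroupOf.2 hyQ)
      rw [h3, mem_bot, commutatorElement_eq_one_iff_mul_comm] at h4
      exact (congrArg Subtype.val h4).symm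
    have h1 : y * e b = e b * y := by
      have h2 := congrArg e hcomm
      rwa [map_mul, map_mul, e.apply_symm_apply] at h2
    have h2 : y * e b * y⁻¹ * (e b)⁻¹ = 1 := by rw [h1]; group
    rw [h2, one_mul]
  · exact ebne (h (e b) ebu eb3)

/-- **row `Ru`** -/
theorem ru : XRow.{u} (fun X _ => Spor.IsoRu X) := by
  intro X _ _ _ _ hX
  obtain ⟨e⟩ := hX
  exact (noL2_of (e.trans Cfsg.Agent.RuLat.Main.equiv)).noCov

end Cfsg.Agent.OddHalf.NI.Ex.RowRu

end
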