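import Cfsg.Agent.OddHalf.NI.Ex.Cut
import Cfsg.Agent.OddHalf.NI.Ex.Lemma
import Cfsg.Agent.OddHalf.NI.Ex.HasUSix
import Cfsg.Agent.OddHalf.NI3.Ex.SpSix
import Cfsg.Agent.OddHalf.NI.Ex.HasGTwoFour
import Cfsg.Agent.OddHalf.NI.Ex.OfLarge
import Cfsg.Agent.OddHalf.D9.Cut
import Cfsg.Agent.TwoESix.SheetA
import Cfsg.Agent.OddHalf.NI.Ex.OfSheet
import Cfsg.Agent.KFacts.J2.SheetX
import Cfsg.Agent.OddHalf.NI.Ex.HasSuz
import Cfsg.Agent.KFacts.Co1.InCo1
import Cfsg.Agent.CoOneType.ClosingCo1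
import Cfsg.Agent.KFacts.Baby.Sheet
import Cfsg.Agent.OddHalf.NI3.Ex.OEight
import Cfsg.Agent.OddHalf.D9.M22.EDataM22
import Cfsg.Agent.OddHalf.Small.Mathieu
import Cfsg.Agent.OddHalf.NI.Ex.Final
import Cfsg.Agent.OddHalf.NI.Ex.RowM12
import Cfsg.Agent.OddHalf.NI.Ex.RowHS
import Cfsg.Agent.OddHalf.NI.Ex.RowRu
import Cfsg.Agent.OddHalf.NI.Ex.RowFi22
import Cfsg.Agent.OddHalf.NI.Ex.RowSz
import Cfsg.Agent.OddHalf.NI3.Ex.FFourRow
import Cfsg.Agent.OddHalf.D9.Final

-- merged: Cfsg.Agent.OddHalf.NI.Ex.RowUSix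
section

/-!
# (EX): the row `U₆(2)` (helper604)
-/

set_option autoImplicit false

namespace Cfsg.Agent.OddHalf.NI.Ex.RowUSix

open Cfsg Cfsg.Agent.OddHalf.D9.Cut Cfsg.Agent.OddHalf.NI.Ex

universe u

/-- **The row `U₆(2)`.** -/
theorem u62 : XRow.{u} (fun X _ => XU62 X) :=
  fun _ _ _ _ _ h => Lemma.noCov_of_good (hasGood_u62 h)

end Cfsg.Agent.OddHalf.NI.Ex.RowUSix

end

-- merged: Cfsg.Agent.OddHalf.NI.Ex.RowSp62
section

/-!
# (EX), the row `Sp₆(2)`: all automorphisms are inner and `X` is of characteristic 2 type (helper367, from helper5's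
`NI3/Ex/SpSix.lean`)
-/

set_option autoImplicit false

namespace Cfsg.Agent.OddHalf.NI.Ex.RowSp62

open Subgroup Cfsg Cfsg.Agent.OddHalf.Iface Cfsg.Agent.OddHalf.NI.Ex Cfsg.Agent.OddHalf.D9.Cut

universe u

/-- The row `Sp₆(2)`. -/
theorem sp62 : XRow.{u} (fun X _ => XSp62 X) := fun X _ _ hs hna h =>
  NoL2.noCov fun _ hα _ hJ _ =>
    NI3.Ex.no_comp_of_inner (NI3.Ex.ct_sp62 hs hna h) (NI3.Ex.inner_sp62 hs hna h) hα hJ

end Cfsg.Agent.OddHalf.NI.Ex.RowSp62

end

-- merged: Cfsg.Agent.OddHalf.NI.Ex.RowGTwoFour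
section

/-!
# (EX): the row `G₂(4)` (helper604)
-/

set_option autoImplicit false

namespace Cfsg.Agent.OddHalf.NI.Ex.RowGTwoFour

open Cfsg Cfsg.Agent.OddHalf.D9.Cut Cfsg.Agent.OddHalf.NI.Ex

universe u

/-- **The row `G₂(4)`.** -/
theorem g24 : XRow.{u} (fun X _ => XG24 X) :=
  fun _ _ _ _ _ h => Lemma.noCov_of_good (hasGood_g24 h)

end Cfsg.Agent.OddHalf.NI.Ex.RowGTwoFour

end

-- merged: Cfsg.Agent.OddHalf.NI.Ex.HasTwE
section

/-!
# (EX): the row `²E₆(2)` (helper604)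
-/

set_option autoImplicit false

namespace Cfsg.Agent.OddHalf.NI.Ex

open Cfsg Cfsg.Agent.TwoESix.LongCard

theorem hasGood_te62 {X : Type*} [Group X] [Finite X] (h : D9.Cut.X2E62 X) : HasGood X := by
  obtain ⟨K, i1, i2, hK, ⟨e⟩⟩ := h
  have : Finite ↥(Lie.twistedE6 K 2) := Finite.of_equiv X e.toEquiv
  obtain ⟨-, φ, F⟩ := Cfsg.Agent.TwoESix.LeviA.exists_four K hK
  exact (hasGood_of_large (Cfsg.Agent.TwoESix.SheetA.large F) (by rw [index_cent F]; decide)
    (Cfsg.Agent.TwoESix.SheetA.perf F)).congr e.symm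

end Cfsg.Agent.OddHalf.NI.Ex

end

-- merged: Cfsg.Agent.OddHalf.NI.Ex.RowTwE
section

/-!
# (EX): the row `²E₆(2)` (helper604)
-/

set_option autoImplicit false

namespace Cfsg.Agent.OddHalf.NI.Ex.RowTwE

open Cfsg Cfsg.Agent.OddHalf.D9.Cut Cfsg.Agent.OddHalf.NI.Ex

universe u

/-- **The row `²E₆(2)`.** -/
theorem te62 : XRow.{u} (fun X _ => X2E62 X) :=
  fun _ _ _ _ _ h => Lemma.noCov_of_good (hasGood_te62 h)

end Cfsg.Agent.OddHalf.NI.Ex.RowTwE

end

-- merged: Cfsg.Agent.OddHalf.NI.Ex.HasJ2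
section

/-!
# (EX): the row of the Hall-Janko group (helper604)
-/

set_option autoImplicit false

namespace Cfsg.Agent.OddHalf.NI.Ex

open Cfsg Cfsg.Agent.OddHalf.D8.JTwo.Sheet

theorem hasGood_j2 {X : Type*} [Group X] [Finite X] (h : Spor.IsoJ2 X) : HasGood X := by
  obtain ⟨t, u, Q, v, ρ, D⟩ := Cfsg.Agent.KFacts.J2.Facts.exists_dat_of h
  exact hasGood_of_sheet (Cfsg.Agent.KFacts.J2.SheetX.sheetX D)

end Cfsg.Agent.OddHalf.NI.Ex

end

-- merged: Cfsg.Agent.OddHalf.NI.Ex.RowJ2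
section

/-!
# (EX): the row `J₂` (helper604)
-/

set_option autoImplicit false

namespace Cfsg.Agent.OddHalf.NI.Ex.RowJ2

open Cfsg Cfsg.Agent.OddHalf.NI.Ex

universe u

/-- **The row `J₂`.** -/
theorem j2 : XRow.{u} (fun X _ => Spor.IsoJ2 X) :=
  fun _ _ _ _ _ h => Lemma.noCov_of_good (hasGood_j2 h)

end Cfsg.Agent.OddHalf.NI.Ex.RowJ2

end

-- merged: Cfsg.Agent.OddHalf.NI.Ex.RowSuz
section

/-!
# (EX): the row `Suz` (helper604)
-/

set_option autoImplicit false

namespace Cfsg.Agent.OddHalf.NI.Ex.RowSuz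

open Cfsg Cfsg.Agent.OddHalf.NI.Ex

universe u

/-- **The row `Suz`.** -/
theorem suz : XRow.{u} (fun X _ => Spor.IsoSuz X) :=
  fun _ _ _ _ _ h => Lemma.noCov_of_good (hasGood_suz h)

end Cfsg.Agent.OddHalf.NI.Ex.RowSuz

end

-- merged: Cfsg.Agent.OddHalf.NI.Ex.HasCo1
section

/-!
# (EX): the row of the Conway group `Co₁` (helper604)
-/

set_option autoImplicit false

namespace Cfsg.Agent.OddHalf.NI.Ex

open Cfsg Cfsg.Agent.KFacts

theorem hasGood_co1 {X : Type*} [Group X] [Finite X] (h : Spor.IsoCo1 X) : HasGood X := by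
  obtain ⟨e⟩ := h
  have : Finite Spor.Co1 := Finite.of_equiv X e.toEquiv
  obtain ⟨o, ho⟩ := Cfsg.Agent.CoOneType.ClosingCo1.exists_octad
  exact (hasGood_of_large (Co1.InCo1.large ho) (Co1.InCo1.odd_index ho) (Co1.InCo1.comm_eq ho)).congr e.symm

end Cfsg.Agent.OddHalf.NI.Ex

end

-- merged: Cfsg.Agent.OddHalf.NI.Ex.RowCo1
section

/-!
# (EX): the row `Co₁` (helper604)
-/

set_option autoImplicit false

namespace Cfsg.Agent.OddHalf.NI.Ex.RowCo1

open Cfsg Cfsg.Agent.OddHalf.NI.Ex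

universe u

/-- **The row `Co₁`.** -/
theorem co1 : XRow.{u} (fun X _ => Spor.IsoCo1 X) :=
  fun _ _ _ _ _ h => Lemma.noCov_of_good (hasGood_co1 h)

end Cfsg.Agent.OddHalf.NI.Ex.RowCo1

end

-- merged: Cfsg.Agent.OddHalf.NI.Ex.HasB
section

/-!
# (EX): the row of the Baby Monster (helper604)
-/

set_option autoImplicit false

namespace Cfsg.Agent.OddHalf.NI.Ex

open Cfsg Cfsg.Agent.KFacts Cfsg.Agent.BabyM Cfsg.Agent.BabyM.Model Cfsg.Agent.BabyU.ClosModel
open Cfsg.Agent.BabyU.ClosLane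

theorem hasGood_b {X : Type*} [Group X] [IsSimpleGroup X] (h : Spor.IsoB X) : HasGood X := by
  obtain ⟨e⟩ := Baby.Sheet.exists_iso_of_isoB h
  have hfin := A.finite_G
  have hs := A.grp.simple
  obtain ⟨π, hπs, hπ⟩ := Baby.Inst.quot A
  obtain ⟨n₀, h1, h2, -⟩ := Baby.Inst.gen A
  have hL := Baby.Inst.large A
  refine HasGood.congr e (hasGood_of_large hL (Baby.Inst.odd_index A) (perf_of_commutator ?_))
  refine LargeE.perfect hL (Baby.Inst.nonab A) π hπs hπ (Baby.Inst.irr' A) ⟨_, h1, ?_, h2⟩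
  intro h3
  apply hL.z_ne
  have h4 : n₀ * zz A = n₀ := by
    rw [mul_inv_eq_one] at h3
    exact h3
  simpa using h4

end Cfsg.Agent.OddHalf.NI.Ex

end

-- merged: Cfsg.Agent.OddHalf.NI.Ex.RowB
section

/-!
# (EX): the row of the Baby Monster (helper604)
-/

set_option autoImplicit false

namespace Cfsg.Agent.OddHalf.NI.Ex.RowB

open Cfsg Cfsg.Agent.OddHalf.NI.Ex

universe u

/-- **The row `B`.** -/
theorem b : XRow.{u} (fun X _ => Spor.IsoB X) :=
  fun _ _ _ hs _ h => Lemma.noCov_of_good (@hasGood_b _ _ hs h)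

end Cfsg.Agent.OddHalf.NI.Ex.RowB

end

-- merged: Cfsg.Agent.OddHalf.NI.Ex.RankCon
section

/-!
# (EX): the rank criterion for constrained involutions (helper803)

* `con_of_char`: in a group of characteristic 2 type all involutions have constrained centralizers.
* `rank_false`: `α² = 1`, `A ≤ C_X(α)` elementary abelian, `|A| > 8`, all involutions of `A` constrained: no component
  `L₂(q)`, `q` odd, of `C_X(α)`.
-/

set_option autoImplicit false

namespace Cfsg.Agent.OddHalf.NI.Ex.RankCon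

open Subgroup Cfsg Cfsg.Agent.OddHalf.Iface Cfsg.Agent.OddHalf.NI Cfsg.Agent.OddHalf.NI.Ex

variable {X : Type*} [Group X]

/-- for an involution `z`: `N(⟨z⟩) = C(z)` -/
theorem normalizer_zpowers {z : X} (zz : z * z = 1) (z1 : z ≠ 1) :
    normalizer ((zpowers z : Subgroup X) : Set X) = centralizer ({z} : Set X) := by
  have hz : ∀ y, y ∈ zpowers z ↔ y = 1 ∨ y = z := by
    intro y
    constructor
    · intro hy
      obtain ⟨i, rfl⟩ := mem_zpowers_iff.1 hy
      rcases Int.even_or_odd i with ⟨k, rfl⟩ | ⟨k, rfl⟩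
      · left
        rw [zpow_add, ← (Commute.refl z).mul_zpow, zz, one_zpow]
      · right
        rw [two_mul, zpow_add, zpow_add, ← (Commute.refl z).mul_zpow, zz, one_zpow, one_mul, zpow_one]
    · rintro (rfl | rfl)
      · exact one_mem _
      · exact mem_zpowers y
  ext x
  rw [mem_centralizer_singleton_iff, mem_normalizer_iff]
  constructor
  · intro h
    have h1 := (h z).1 (mem_zpowers z)
    rcases (hz _).1 h1 with h2 | h2
    · exfalso
      apply z1
      calc z = x⁻¹ * (x * z * x⁻¹) * x := by group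
        _ = 1 := by rw [h2]; group
    · exact mul_inv_eq_iff_eq_mul.1 h2
  · intro h y
    have h3 : x * z * x⁻¹ = z := mul_inv_eq_iff_eq_mul.2 h
    rw [hz, hz]
    constructor
    · rintro (rfl | rfl)
      · left; group
      · right; exact h3
    · rintro (h4 | h4)
      · left
        calc y = x⁻¹ * (x * y * x⁻¹) * x := by group
          _ = 1 := by rw [h4]; group
      · right
        calc y = x⁻¹ * (x * y * x⁻¹) * x := by group
          _ = x⁻¹ * (x * z * x⁻¹) * x := by rw [h4, h3]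
          _ = z := by group

/-- **In a group of characteristic 2 type all involutions are constrained.** -/
theorem con_of_char {X : Type*} [Group X] [Finite X] (hC : IsCharacteristicTwoType X) {z : X} (zz : z * z = 1)
    (z1 : z ≠ 1) : Lemma.Con z := by
  have : Fact (Nat.Prime 2) := ⟨Nat.prime_two⟩
  have hR : IsPGroup 2 (zpowers z) := by
    rintro ⟨a, ha⟩
    obtain ⟨i, rfl⟩ := mem_zpowers_iff.1 ha
    refine ⟨1, Subtype.ext ?_⟩
    show (z ^ i) ^ (2 ^ 1) = 1
    rw [pow_one, pow_two, ← (Commute.refl z).mul_zpow, zz, one_zpow]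
  have hR1 : zpowers z ≠ ⊥ := by
    rw [Ne, zpowers_eq_bot]
    exact z1
  have h1 := hC.2 _ hR hR1
  rw [normalizer_zpowers zz z1] at h1
  set M : Subgroup X := centralizer ({z} : Set X) with hM
  have hchar : centralizer (pCore 2 ↥M : Set ↥M) ≤ pCore 2 ↥M := h1
  refine ⟨(pCore 2 ↥M).map M.subtype, (Lib.Cores.pCore_isPGroup 2).map _, map_subtype_le _, ?_, ?_⟩
  · rintro h hh _ ⟨q, hq, rfl⟩
    exact ⟨⟨h, hh⟩ * q * ⟨h, hh⟩⁻¹, (Lib.Cores.pCore_normal 2).conj_mem q hq ⟨h, hh⟩, rfl⟩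
  · intro h hh hq
    refine ⟨⟨h, hh⟩, hchar ?_, rfl⟩
    rw [mem_centralizer_iff]
    intro q hq'
    exact Subtype.ext (hq _ ⟨q, hq', rfl⟩).symm

/-- **The rank criterion.** -/
theorem rank_false {X : Type*} [Group X] [Finite X] {α : MulAut X} (hα : α * α = 1) {J : Subgroup X}
    (hJ : CompIn (fix α) J) (h2 : IsL2 ↥J) {A : Subgroup X} (hA : A ≤ fix α) (hA2 : ∀ a ∈ A, a * a = 1)
    (hcon : ∀ a ∈ A, a ≠ 1 → Lemma.Con a) (hc : 8 < Nat.card ↥A) : False := by
  have hn : ∀ a ∈ A, ∀ j ∈ J, a * j * a⁻¹ ∈ J := by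
    intro a ha
    by_cases h1 : a = 1
    · intro j hj
      rw [h1, one_mul, inv_one, mul_one]
      exact hj
    · exact ((hcon a ha h1).balance hα (hA ha) (hA2 a ha) hJ).1
  have hle : A ≤ normalizer (J : Set X) := by
    intro a ha
    rw [mem_normalizer_iff]
    refine fun j => ⟨hn a ha j, fun hj => ?_⟩
    have h3 := hn a⁻¹ (A.inv_mem ha) _ hj
    rwa [inv_inv, show a⁻¹ * (a * j * a⁻¹) * a = j by group] at h3
  let φ : ↥A →* MulAut ↥J := (normalizerMonoidHom J).comp (inclusion hle)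
  have hφ : ∀ (a : ↥A) (j : ↥J), ((φ a j : ↥J) : X) = a * j * (a : X)⁻¹ := fun a j => rfl
  have hinj : Function.Injective φ := by
    rw [injective_iff_map_eq_one]
    intro a h3
    by_contra h4
    have h5 : (a : X) ≠ 1 := fun h => h4 (Subtype.ext h)
    obtain ⟨j, hj, hne⟩ := ((hcon a a.2 h5).balance hα (hA a.2) (hA2 a a.2) hJ).2
    apply hne
    have h6 := hφ a ⟨j, hj⟩
    rw [h3] at h6
    have h7 : j = (a : X) * j * (a : X)⁻¹ := h6
    exact (mul_inv_eq_iff_eq_mul.1 h7.symm)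
  obtain ⟨F, i, j, hF, -, ⟨e⟩⟩ := h2
  let R := GH.L2Aut.Rep.ofEquiv (GH.L2Aut.two_ne_zero_of_odd hF) e
  have h3 := RankAut.card_le_eight R φ.range (by
    rintro _ ⟨a, rfl⟩
    rw [← map_mul]
    have : a * a = 1 := Subtype.ext (hA2 _ a.2)
    rw [this, map_one])
  have h4 : Nat.card ↥φ.range = Nat.card ↥A :=
    (Nat.card_congr (MonoidHom.ofInjective hinj).toEquiv).symm
  omega

end Cfsg.Agent.OddHalf.NI.Ex.RankCon

end

-- merged: Cfsg.Agent.OddHalf.NI.Ex.RowM22
section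

/-!
# (EX), row `M22` (helper803)

`M22` is of characteristic 2 type; every outer involutory automorphism centralises a conjugate of the subgroup `E`,
elementary abelian of order 16.
-/

set_option autoImplicit false

namespace Cfsg.Agent.OddHalf.NI.Ex.RowM22

open Subgroup Cfsg Cfsg.Agent.OddHalf.Iface Cfsg.Agent.OddHalf.NI Cfsg.Agent.OddHalf.NI.Ex
open Cfsg.Agent.OddHalf.D9.M22 Cfsg.Agent.OddHalf.D9.M22.EDataM22

universe u

theorem card_E22 : Nat.card ↥E22 = 16 := by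
  rw [← card_E]
  exact Nat.card_congr (subgroupOfEquivOfLe E_le).toEquiv

theorem E22_sq {x : Spor.M22} (hx : x ∈ E22) : x * x = 1 := Subtype.ext (E_sq hx)

/-- an involutory automorphism is inner or centralises an elementary abelian group of order 16 -/
theorem exists_sixteen {X : Type u} [Group X] (h : Spor.IsoM22 X) {α : MulAut X} (hα : α * α = 1) :
    (∃ x, α = MulAut.conj x) ∨ ∃ A : Subgroup X, A ≤ fix α ∧ (∀ a ∈ A, a * a = 1) ∧ Nat.card ↥A = 16 := by
  obtain ⟨e⟩ := h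
  let β : MulAut Spor.M22 := MulAut.congr e α
  have hβ : β * β = 1 := by rw [← map_mul, hα, map_one]
  have h1 : ∀ y, β (e y) = e (α y) := fun y => by
    change e (α (e.symm (e y))) = e (α y)
    rw [MulEquiv.symm_apply_apply]
  by_cases hin : ∀ m, β ≠ MulAut.conj m
  · right
    obtain ⟨g, hg⟩ := outer β hβ hin
    let f : Spor.M22 →* X := e.symm.toMonoidHom.comp (MulAut.conj g).toMonoidHom
    have hf : Function.Injective f := e.symm.injective.comp (MulAut.conj g).injective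
    have hfa : ∀ x, f x = e.symm (g * x * g⁻¹) := fun _ => rfl
    refine ⟨E22.map f, ?_, ?_, ?_⟩
    · rintro _ ⟨x, hx, rfl⟩
      rw [mem_fix, hfa]
      apply e.injective
      rw [← h1, MulEquiv.apply_symm_apply, hg x hx]
    · rintro _ ⟨x, hx, rfl⟩
      rw [← map_mul, E22_sq hx, map_one]
    · rw [← card_E22]
      exact (Nat.card_congr (E22.equivMapOfInjective f hf).toEquiv).symm
  · left
    push Not at hin
    obtain ⟨m, hm⟩ := hin
    refine ⟨e.symm m, ?_⟩
    ext x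
    apply e.injective
    rw [← h1, hm, MulAut.conj_apply, MulAut.conj_apply, map_mul, map_mul, map_inv, MulEquiv.apply_symm_apply]

theorem center_eq_bot {X : Type u} [Group X] (hs : IsSimpleGroup X) (hna : ¬ IsMulCommutative X) :
    center X = ⊥ := by
  rcases hs.eq_bot_or_eq_top_of_normal (center X) inferInstance with h1 | h1
  · exact h1
  · exfalso
    apply hna
    refine ⟨⟨fun a b => ?_⟩⟩
    have h3 : b ∈ center X := by rw [h1]; exact mem_top _
    exact mem_center_iff.1 h3 a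

theorem noL2_m22 {X : Type u} [Group X] [Finite X] (hs : IsSimpleGroup X) (hna : ¬ IsMulCommutative X)
    (h : Spor.IsoM22 X) : NoL2 X := by
  intro α hα J hJ h2
  have hC : IsCharacteristicTwoType X := Small.Mathieu.m22 h
  have h1 : α * α = 1 := by rw [← pow_two, ← hα, pow_orderOf_eq_one]
  rcases exists_sixteen h h1 with ⟨x, rfl⟩ | ⟨A, hA, hA2, hc⟩
  · have hx : x ∈ center X → False := by
      intro hx
      have h3 : MulAut.conj x = 1 := by
        ext y
        rw [MulAut.conj_apply, MulAut.one_apply, ← mem_center_iff.1 hx y, mul_inv_cancel_right]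
      rw [h3, orderOf_one] at hα
      omega
    have hxx : x * x ∈ center X := by
      rw [mem_center_iff]
      intro y
      have h3 := DFunLike.congr_fun h1 y
      rw [MulAut.mul_apply, MulAut.conj_apply, MulAut.conj_apply, MulAut.one_apply] at h3
      calc y * (x * x) = x * (x * y * x⁻¹) * x⁻¹ * (x * x) := by rw [h3]
        _ = x * x * y := by group
    have hZ : center X = ⊥ := center_eq_bot hs hna
    rw [hZ, mem_bot] at hxx
    have hx1 : x ≠ 1 := fun h3 => hx (by rw [h3]; exact one_mem _)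
    have hb := (RankCon.con_of_char hC hxx hx1).balance h1 (by rw [MulAut.conj_apply]; group) hxx hJ
    obtain ⟨j, hj, hne⟩ := hb.2
    apply hne
    have h4 := hJ.le hj
    rw [mem_fix, MulAut.conj_apply] at h4
    exact mul_inv_eq_iff_eq_mul.1 h4
  · refine RankCon.rank_false h1 hJ h2 hA hA2 (fun a ha ha1 => RankCon.con_of_char hC (hA2 a ha) ha1) ?_
    rw [hc]
    norm_num

/-- **row `M22`** -/
theorem m22 : XRow.{u} (fun X _ => Spor.IsoM22 X) := fun _ _ _ hs hna h => (noL2_m22 hs hna h).noCov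

end Cfsg.Agent.OddHalf.NI.Ex.RowM22

end

-- merged: Cfsg.Agent.OddHalf.NI.Ex.Plug
section

/-!
# (EX): all rows plugged (helper367)

* `xrows : XRows` (no hypotheses).
-/

set_option autoImplicit false

namespace Cfsg.Agent.OddHalf.NI.Ex.Plug

open Subgroup Cfsg Cfsg.Agent.OddHalf.Iface Cfsg.Agent.OddHalf.LieOddFam Cfsg.Agent.OddHalf.D9.Cut

universe u

/-- **All K-facts of (EX).** -/
theorem xrows : Final.XRows.{u} where
  u62 := RowUSix.u62
  sp62 := RowSp62.sp62
  o82 := fun _ _ _ hs hna h => (NI3.Ex.noL2_o82 hs hna h).noCov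
  g24 := RowGTwoFour.g24
  f42 := NI3.Ex.FFour.f42
  te62 := RowTwE.te62
  m12 := RowM12.m12 D9.Final.mult
  j2 := RowJ2.j2
  hs := RowHS.hs
  suz := RowSuz.suz
  ru := RowRu.ru
  fi22 := RowFi22.fi22
  co1 := RowCo1.co1
  b := RowB.b
  m22 := RowM22.m22
  sz := RowSz.sz

end Cfsg.Agent.OddHalf.NI.Ex.Plug

end
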