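import Cfsg.Agent.OddHalf.D9.L34Mult.Gamma
import Cfsg.Agent.OddHalf.NI.Ex.Cut

-- merged: Cfsg.Agent.OddHalf.NI.Ex.L34
section

/-!
# (EX): involutory automorphisms of a cover of `PSL(3,4)` and non-commuting lifts (helper372)

`M` a perfect central extension of `PSL(3,4)`, `α` an automorphism of `M` of order 2 which fixes an element of order
three modulo the centre and two elements `e`, `e'` whose images are commuting involutions. If `e`, `e'` do not commute
in `M`, then `α` is of field type and there is a central element `a` with `α (a²) = a² [e, e']`, `a⁴ = 1`.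
-/

set_option autoImplicit false
set_option linter.constructorNameAsVariable false
set_option linter.unusedSectionVars false
set_option linter.unusedVariables false

namespace Cfsg.Agent.OddHalf.NI.Ex.L34

open Cfsg.Agent.SporadicA.FieldFour
open Cfsg.Agent.ONType.Psl
open Cfsg.Agent.ONType.Comm (cm cm_conj cm_mul_left cm_mul_right conj_central)
open Cfsg.Agent.LThreeFour
open Cfsg.Agent.OddHalf.D9.L34Mult
open Cfsg.Agent.OddHalf.D9.L34Mult.Gamma (conj_inj no_six tau_hh)

theorem graph_aux : ∀ (τ : Ty) (p : Code) (a b c : F4), τ.2.1 = true → a * b = 0 →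
    cact p τ ⟨a, b, c⟩ = ⟨a, b, c⟩ → a = 0 ∧ b = 0 := by
  decide +kernel

theorem field_aux : ∀ (d : Fin 3) (p : Code) (a b c : F4),
    cact p (true, false, d) ⟨a, b, c⟩ = ⟨a, b, c⟩ →
    pu (true, false, d) 0 1 a = a ∧ pu (true, false, d) 1 2 b = b := by
  decide +kernel

theorem sol_aux : ∀ (d : Fin 3) (a b : F4), pu (true, false, d) 0 1 a = a →
    pu (true, false, d) 1 2 b = b →
    pu (true, false, d) 0 1 1 * pu (true, false, d) 0 2 (ω * a + ω2 * (b * b)) =
      (ω * a + ω2 * (b * b)) + (a + b * b) := by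
  decide +kernel

theorem four_aux : ∀ s : F4, s * s * (s * s) = s := by decide

variable {M : Type*} [Group M] {π : M →* PSL3} (C : CE π)
include C

theorem cm_central_left {c : M} (hc : π c = 1) (x z : M) : cm (x * c) z = cm x z := by
  have h := C.cen c hc
  unfold cm
  calc (x * c)⁻¹ * z⁻¹ * (x * c) * z = c⁻¹ * (x⁻¹ * z⁻¹ * x) * (c * z) := by group
    _ = c⁻¹ * ((x⁻¹ * z⁻¹ * x * z) * c) := by rw [h z]; group
    _ = c⁻¹ * (c * (x⁻¹ * z⁻¹ * x * z)) := by rw [h]
    _ = x⁻¹ * z⁻¹ * x * z := by group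

theorem cm_central_right {c : M} (hc : π c = 1) (x z : M) : cm x (z * c) = cm x z := by
  have h := C.cen c hc
  unfold cm
  calc x⁻¹ * (z * c)⁻¹ * x * (z * c) = x⁻¹ * (c⁻¹ * (z⁻¹ * x * z * c)) := by group
    _ = x⁻¹ * (c⁻¹ * (c * (z⁻¹ * x * z))) := by rw [h]
    _ = x⁻¹ * z⁻¹ * x * z := by group

/-- the commutator of a lift of `t₀₂(1)` with a lift of `t₀₁(a) t₁₂(b) t₀₂(c)` -/
theorem cm_lift {e e' : M} (he : π e = t 0 2 1) {a b c : F4}
    (he' : π e' = t 0 1 a * t 1 2 b * t 0 2 c) : cm e e' = C.f a * C.f (b * b) := by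
  obtain ⟨z, hz, rfl⟩ := CE.eq_mul_of_map_eq ((C.map_x 0 2 (by decide) 1).trans he.symm)
  obtain ⟨z', hz', rfl⟩ := CE.eq_mul_of_map_eq (y := C.x 0 1 a * C.x 1 2 b * C.x 0 2 c)
    (y' := e') (by
      rw [map_mul, map_mul, C.map_x 0 1 (by decide), C.map_x 1 2 (by decide), C.map_x 0 2 (by decide)]
      exact he'.symm)
  rw [cm_central_left C hz, cm_central_right C hz']
  have h1 : cm (C.x 0 2 1) (C.x 0 1 a) = C.f a := by
    rw [C.cm_row 0 2 1 (by decide) (by decide) (by decide), C.F_eq, one_mul]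
  have h2 : cm (C.x 0 2 1) (C.x 1 2 b) = C.f (b * b) := by
    rw [C.cm_col 0 2 1 (by decide) (by decide) (by decide), C.F'_eq, one_mul, C.f'_eq]
  have h3 : cm (C.x 0 2 1) (C.x 0 2 c) = 1 := by
    have := C.comm_lift (i := 0) (j := 2) (by decide) (C.map_x 0 2 (by decide) 1)
      (C.map_x 0 2 (by decide) c)
    unfold cm
    calc (C.x 0 2 1)⁻¹ * (C.x 0 2 c)⁻¹ * C.x 0 2 1 * C.x 0 2 c
        = (C.x 0 2 c * C.x 0 2 1)⁻¹ * (C.x 0 2 1 * C.x 0 2 c) := by group
      _ = 1 := by rw [this.eq, inv_mul_cancel]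
  have c1 : ∀ m, C.f a * m = m * C.f a := C.f_cen a
  have c2 : ∀ m, C.f (b * b) * m = m * C.f (b * b) := C.f_cen (b * b)
  have h4 : cm (C.x 0 2 1) (C.x 0 1 a * C.x 1 2 b) = C.f a * C.f (b * b) := by
    rw [cm_mul_right, h1, h2, conj_central c1, c1]
  have c3 : ∀ m, C.f a * C.f (b * b) * m = m * (C.f a * C.f (b * b)) := by
    intro m
    rw [mul_assoc, c2, ← mul_assoc, c1, mul_assoc]
  rw [cm_mul_right, h4, h3, one_mul, conj_central c3]

/-- the normalised case -/
theorem core_aux (hperf : commutator M = ⊤) (b : MulAut M →* MulAut PSL3)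
    (hb : ∀ α m, b α (π m) = π (α m)) {α : MulAut M} (hα : α * α = 1) (hα1 : α ≠ 1) {e e' o : M}
    (he : α e = e) (he' : α e' = e') (ho : α o = o) (hπe : π e = t 0 2 1)
    (he2 : π e' * π e' = 1) (hc : π (cm e e') = 1) (hy : cm e e' ≠ 1) (ho3 : π o ^ 3 = 1)
    (ho1 : π o ≠ 1) :
    ∃ a, π a = 1 ∧ α (a * a) = a * a * cm e e' ∧ a * a * (a * a) = 1 := by
  have g1 : b α (t 0 2 1) = t 0 2 1 := by rw [← hπe, hb, he]
  have hcomm : π e' * t 0 2 1 = t 0 2 1 * π e' := by
    have h1 := Cfsg.Agent.ONType.Comm.cm_spec e e'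
    have h2 := congrArg π h1
    rw [map_mul, map_mul, map_mul, hc, mul_one, hπe] at h2
    exact h2.symm
  obtain ⟨a, b', c, hje⟩ := (Cfsg.Agent.StdL34.PslCent.cent_t02 _).1 hcomm
  have hyf := cm_lift C hπe hje
  have hab : a * b' = 0 := by
    have h1 : Cfsg.Agent.StdLThreeFour.Base.e a b' c * Cfsg.Agent.StdLThreeFour.Base.e a b' c = 1 := by
      have h2 : Cfsg.Agent.StdLThreeFour.Base.e a b' c = π e' := hje.symm
      rw [h2]; exact he2
    rw [Cfsg.Agent.StdLThreeFour.Facts1.e_sq] at h1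
    exact (Cfsg.Agent.StdLThreeFour.Facts1.e_one h1).2.2
  obtain ⟨p, τ, hcd⟩ := datPSL.exists_cd (α := b α) g1
  have hel : datPSL.el ⟨a, b', c⟩ = π e' := hje.symm
  have hfix : cact p τ ⟨a, b', c⟩ = ⟨a, b', c⟩ := by
    have h1 := hcd.apply ⟨a, b', c⟩
    rw [hel, hb, he', ← hel] at h1
    exact (datPSL.inj h1).symm
  have hty : datPSL.tyHom (b α) = ⟨τ⟩ := hcd.hasTy.tyHom
  have hsq : b α * b α = 1 := by rw [← map_mul, hα, map_one]
  obtain ⟨τ1, τ2, d⟩ := τ
  cases τ2 with
  | true =>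
    exfalso
    obtain ⟨h1, h2⟩ := graph_aux _ p a b' c rfl hab hfix
    apply hy
    rw [hyf, h1, h2, mul_zero, C.f_zero, one_mul]
  | false =>
    cases τ1 with
    | false =>
      exfalso
      have h1 : datPSL.tyHom (b α) = 1 := by
        apply sq_inner
        · rw [hty]; rfl
        · rw [← map_mul, hsq, map_one]
      obtain ⟨l, hl⟩ := datPSL.inner_iff.mp h1
      have hl1 : l ≠ 1 := by
        rintro rfl
        apply hα1
        apply C.eq_of_bar hperf b hb
        rw [hl, map_one, map_one]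
      have hl2 : l * l = 1 := by
        apply conj_inj
        rw [map_mul, map_one, ← hl]
        exact hsq
      have hlo : l * π o = π o * l := by
        have h2 : b α (π o) = π o := by rw [hb, ho]
        rw [hl, MulAut.conj_apply, mul_inv_eq_iff_eq_mul] at h2
        exact h2
      exact no_six hl1 hl2 ho1 ho3 hlo
    | true =>
      obtain ⟨m, hm⟩ := C.surj (datPSL.el p)
      have hτ : datPSL.IsTau (true, false, d) (b (MulAut.conj m * α)) := by
        rw [map_mul, CE.bar_conj C b hb, hm]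
        exact hcd
      have hx : ∀ i j : Fin 3, i ≠ j → ∀ w,
          (MulAut.conj m * α) (C.x i j w) = C.x i j (pu (true, false, d) i j w) := by
        intro i j hij w
        refine C.x_map (MulAut.conj m * α).toMonoidHom (Or.inr ?_) hij hij ?_
        · show π ((MulAut.conj m * α) C.h) = _
          rw [← hb, C.map_h]
          exact tau_hh hτ rfl
        · show π ((MulAut.conj m * α) (C.x i j w)) = _
          rw [← hb, C.map_x i j hij]
          exact hτ i j hij w
      have hαf : ∀ s, α (C.f s) = C.f (pu (true, false, d) 0 1 1 * pu (true, false, d) 0 2 s) := by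
        intro s
        have h1 : (MulAut.conj m * α) (C.f s) =
            C.f (pu (true, false, d) 0 1 1 * pu (true, false, d) 0 2 s) := by
          rw [← C.F_eq]
          show (MulAut.conj m * α) (cm (C.x 0 1 1) (C.x 0 2 s)) = cm _ _
          rw [← hx 0 1 (by decide) 1, ← hx 0 2 (by decide) s]
          unfold cm
          simp only [map_mul, map_inv]
        rw [MulAut.mul_apply, MulAut.conj_apply] at h1
        have h2 : ∀ x, C.f (pu (true, false, d) 0 1 1 * pu (true, false, d) 0 2 s) * x =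
            x * C.f (pu (true, false, d) 0 1 1 * pu (true, false, d) 0 2 s) := C.f_cen _
        calc α (C.f s) = m⁻¹ * (m * α (C.f s) * m⁻¹) * m := by group
          _ = _ := by rw [h1, conj_central h2]
      obtain ⟨k1, k2⟩ := field_aux d p a b' c hfix
      have key := sol_aux d a b' k1 k2
      obtain ⟨s, hs⟩ : ∃ s, s = ω * a + ω2 * (b' * b') := ⟨_, rfl⟩
      rw [← hs] at key
      refine ⟨C.g (s * s), C.g_map _, ?_, ?_⟩
      · rw [C.g_sq, four_aux, hαf, key, C.f_add s, C.f_add a, hyf]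
      · rw [C.g_sq, four_aux, C.f_sq]

theorem core (hperf : commutator M = ⊤) (hcen : ∀ k : M, (∀ m, k * m = m * k) → π k = 1)
    {α : MulAut M} (hα : α * α = 1) (hα1 : α ≠ 1) {e e' o : M}
    (he : α e = e) (he' : α e' = e') (ho : α o = o) (he1 : π e * π e = 1)
    (he2 : π e' * π e' = 1) (hc : π (cm e e') = 1) (hy : cm e e' ≠ 1) (ho3 : π o ^ 3 = 1)
    (ho1 : π o ≠ 1) :
    ∃ a, π a = 1 ∧ α (a * a) = a * a * cm e e' ∧ a * a * (a * a) = 1 := by
  obtain ⟨b, hb⟩ := C.exists_bar hcen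
  have hne : π e ≠ 1 := by
    intro h
    apply hy
    have h1 := C.cen e h e'
    unfold cm
    calc e⁻¹ * e'⁻¹ * e * e' = (e' * e)⁻¹ * (e * e') := by group
      _ = 1 := by rw [h1, inv_mul_cancel]
  obtain ⟨g, hg⟩ := Cfsg.Agent.StdLThreeFour.Facts1.inv_conj hne he1
  obtain ⟨g, rfl⟩ := C.surj g
  have cj : ∀ x, (MulAut.conj g * α * (MulAut.conj g)⁻¹) (g * x * g⁻¹) = g * α x * g⁻¹ := by
    intro x
    rw [MulAut.mul_apply, MulAut.mul_apply, ← map_inv, MulAut.conj_apply, MulAut.conj_apply,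
      inv_inv]
    congr 2
    congr 1
    group
  have hcm : cm (g * e * g⁻¹) (g * e' * g⁻¹) = cm e e' := by
    have h1 := cm_conj e e' g⁻¹
    rw [inv_inv] at h1
    rw [← h1]
    have h2 := conj_central (C.cen _ hc) g⁻¹
    rwa [inv_inv] at h2
  obtain ⟨a, h1, h2, h3⟩ := core_aux C hperf b hb (α := MulAut.conj g * α * (MulAut.conj g)⁻¹)
    (e := g * e * g⁻¹) (e' := g * e' * g⁻¹) (o := g * o * g⁻¹) (by
      calc _ = MulAut.conj g * (α * α) * (MulAut.conj g)⁻¹ := by group
        _ = 1 := by rw [hα]; group) (by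
      intro h
      apply hα1
      calc α = (MulAut.conj g)⁻¹ * (MulAut.conj g * α * (MulAut.conj g)⁻¹) * MulAut.conj g := by group
        _ = 1 := by rw [h]; group)
    (by rw [cj, he]) (by rw [cj, he']) (by rw [cj, ho])
    (by rw [map_mul, map_mul, map_inv]; exact hg)
    (by
      rw [map_mul, map_mul, map_inv]
      calc π g * π e' * (π g)⁻¹ * (π g * π e' * (π g)⁻¹) = π g * (π e' * π e') * (π g)⁻¹ := by group
        _ = 1 := by rw [he2]; group)
    (by rw [hcm, hc]) (by rw [hcm]; exact hy)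
    (by
      rw [map_mul, map_mul, map_inv, conj_pow, ho3]; group)
    (by
      intro h
      apply ho1
      rw [map_mul, map_mul, map_inv] at h
      calc π o = (π g)⁻¹ * (π g * π o * (π g)⁻¹) * π g := by group
        _ = 1 := by rw [h]; group)
  refine ⟨a, h1, ?_, h3⟩
  rw [hcm] at h2
  have hca := C.cen (a * a) (by rw [map_mul, h1, one_mul])
  have e1 : a * a = g * (a * a) * g⁻¹ := by rw [← hca g]; group
  have h4 : π (α (a * a)) = 1 := by rw [← hb, map_mul, h1, one_mul, map_one]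
  have hca' := C.cen _ h4
  calc α (a * a) = g * α (a * a) * g⁻¹ := by rw [← hca' g]; group
    _ = (MulAut.conj g * α * (MulAut.conj g)⁻¹) (g * (a * a) * g⁻¹) := (cj _).symm
    _ = (MulAut.conj g * α * (MulAut.conj g)⁻¹) (a * a) := by rw [← e1]
    _ = a * a * cm e e' := h2

end Cfsg.Agent.OddHalf.NI.Ex.L34

end

-- merged: Cfsg.Agent.OddHalf.NI.Ex.L34Row
section

/-!
# (EX): the row `N / Z(N) = L₃(4)` (helper372)

`row : No44 → GRow XL34`: the only configuration which is possible inside `N` has `Z(N) ≥ 4 × 4`; `No44` says that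
there is no component `N` of `C(y)`, `y ∈ N`, with `N / Z(N) = L₃(4)` and `Z(N) ≥ 4 × 4` (case 4 × 4 of I34).
-/

set_option autoImplicit false

namespace Cfsg.Agent.OddHalf.NI.Ex.L34

open Subgroup Cfsg Cfsg.Agent.OddHalf.Iface Cfsg.Agent.OddHalf.LieOddFam Cfsg.Agent.OddHalf.D9.Cut
open Cfsg.Agent.OddHalf.D3 (cj Comp)
open Cfsg.Agent.ONType.Comm (cm)
open Cfsg.Agent.OddHalf.D9.L34Mult
open Matrix

universe u

/-- There is no intrinsic component `N ∋ y` of `C(y)` with `N / Z(N) ≅ L₃(4)` and `⟨a, b⟩ ≅ 4 × 4` in `Z(N)`. -/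
def No44 : Prop :=
  ∀ (G : Type u) [Group G], Ctx G → ∀ (y : G) (N : Subgroup G), orderOf y = 2 → Comp y N → y ∈ N →
    XL34 (↥N ⧸ center ↥N) →
    (∃ a b : ↥N, a ∈ center ↥N ∧ b ∈ center ↥N ∧ a * a * (a * a) = 1 ∧ a * a ≠ 1 ∧ ((a * a : ↥N) : G) ≠ y ∧
      ((b * b : ↥N) : G) = ((a * a : ↥N) : G) * y) → False

/-- a quaternion group and an element of order three in `SL₂(q)` -/
theorem sl_elts (F : Type*) [Field F] [Fintype F] :
    ∃ i j o : SpecialLinearGroup (Fin 2) F, i * i = -1 ∧ j * j = -1 ∧ i * j = -(j * i) ∧ o * o * o = 1 ∧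
      o * i ≠ i * o := by
  obtain ⟨a, b, hab⟩ : ∃ a b : F, a ^ 2 + b ^ 2 = -1 := by
    obtain ⟨p, hp⟩ := CharP.exists F
    have : NeZero p := ⟨(CharP.char_is_prime F p).ne_zero⟩
    obtain ⟨a, b, h⟩ := CharP.sq_add_sq F p (-1)
    exact ⟨a, b, by rw [h]; simp⟩
  refine ⟨⟨!![0, 1; -1, 0], by simp [det_fin_two]⟩, ⟨!![a, b; b, -a], by
      rw [det_fin_two_of]; linear_combination -hab⟩, ⟨!![0, 1; -1, -1], by simp [det_fin_two]⟩, ?_, ?_, ?_, ?_, ?_⟩
  · apply Subtype.ext
    change (!![0, 1; -1, 0] * !![0, 1; -1, 0] : Matrix (Fin 2) (Fin 2) F) = -1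
    rw [Matrix.mul_fin_two]
    ext r s
    fin_cases r <;> fin_cases s <;> simp
  · apply Subtype.ext
    change (!![a, b; b, -a] * !![a, b; b, -a] : Matrix (Fin 2) (Fin 2) F) = -1
    rw [Matrix.mul_fin_two]
    ext r s
    fin_cases r <;> fin_cases s <;> simp
    · linear_combination hab
    · ring
    · ring
    · linear_combination hab
  · apply Subtype.ext
    change (!![0, 1; -1, 0] * !![a, b; b, -a] : Matrix (Fin 2) (Fin 2) F) = -(!![a, b; b, -a] * !![0, 1; -1, 0])
    rw [Matrix.mul_fin_two, Matrix.mul_fin_two]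
    ext r s
    fin_cases r <;> fin_cases s <;> simp
  · apply Subtype.ext
    change (!![0, 1; -1, -1] * !![0, 1; -1, -1] * !![0, 1; -1, -1] : Matrix (Fin 2) (Fin 2) F) = 1
    rw [Matrix.mul_fin_two, Matrix.mul_fin_two]
    ext r s
    fin_cases r <;> fin_cases s <;> simp
  · intro h
    have h1 := congrArg (fun m : SpecialLinearGroup (Fin 2) F => (m : Matrix (Fin 2) (Fin 2) F)) h
    change (!![0, 1; -1, -1] * !![0, 1; -1, 0] : Matrix (Fin 2) (Fin 2) F) = !![0, 1; -1, 0] * !![0, 1; -1, -1] at h1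
    rw [Matrix.mul_fin_two, Matrix.mul_fin_two] at h1
    have h2 := congrFun (congrFun h1 1) 0
    simp at h2

theorem exists_elts {B : Type*} [Group B] {F : Type} [Field F] [Fintype F] (hF : Odd (Fintype.card F))
    (f : B ≃* SpecialLinearGroup (Fin 2) F) {y : B} (hy : orderOf y = 2) :
    ∃ e e' o : B, (e * e = 1 ∨ e * e = y) ∧ (e' * e' = 1 ∨ e' * e' = y) ∧ cm e e' = y ∧ o ^ 3 = 1 ∧
      o * e ≠ e * o := by
  obtain ⟨i, j, o, h1, h2, h3, h4, h5⟩ := sl_elts F
  have h20 : (2 : F) ≠ 0 := by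
    intro h
    have hc : ringChar F ≠ 2 := by
      intro h3
      have h4 := FiniteField.even_card_of_char_two h3
      rw [Nat.odd_iff] at hF
      omega
    exact hc (by
      haveI := ringChar.charP F
      have : ringChar F ∣ 2 := (CharP.cast_eq_zero_iff F (ringChar F) 2).mp (by exact_mod_cast h)
      rcases (Nat.dvd_prime Nat.prime_two).mp this with h4 | h4
      · exfalso
        exact CharP.char_ne_one F (ringChar F) h4
      · exact h4)
  have hneg : (-1 : SpecialLinearGroup (Fin 2) F) ≠ 1 := by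
    intro h
    have h1 := congrArg (fun m : SpecialLinearGroup (Fin 2) F => (m : Matrix (Fin 2) (Fin 2) F) 0 0) h
    simp at h1
    apply h20
    linear_combination -h1
  have hcen : f.symm (-1) ∈ center B := by
    rw [mem_center_iff]
    intro g
    apply f.injective
    rw [map_mul, map_mul, MulEquiv.apply_symm_apply]
    simp
  have hyeq : f.symm (-1) = y := by
    rcases Quot.sl_center hF f hy hcen with h | h
    · exfalso
      apply hneg
      rw [← f.apply_symm_apply (-1), h, map_one]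
    · exact h
  have hi : i⁻¹ = -i := by
    rw [inv_eq_iff_mul_eq_one, mul_neg, h1, neg_neg]
  have hj : j⁻¹ = -j := by
    rw [inv_eq_iff_mul_eq_one, mul_neg, h2, neg_neg]
  refine ⟨f.symm i, f.symm j, f.symm o, Or.inr ?_, Or.inr ?_, ?_, ?_, ?_⟩
  · rw [← map_mul, h1, hyeq]
  · rw [← map_mul, h2, hyeq]
  · unfold cm
    rw [← map_inv, ← map_inv, ← map_mul, ← map_mul, ← map_mul, ← hyeq, hi, hj]
    congr 1
    calc -i * -j * i * j = i * j * (i * j) := by rw [neg_mul_neg, mul_assoc (i * j)]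
      _ = -(j * i) * (i * j) := by rw [← h3]
      _ = -(j * (i * i) * j) := by rw [neg_mul]; simp only [mul_assoc]
      _ = j * j := by rw [h1]; simp
      _ = -1 := h2
  · rw [← map_pow, pow_succ, pow_two, h4, map_one]
  · intro h
    apply h5
    rw [← map_mul, ← map_mul] at h
    exact f.symm.injective h

/-- **The row `L₃(4)` of (EX).** -/
theorem row (h44 : No44.{u}) : GRow.{u} (fun X _ => XL34 X) := by
  intro G _ CC t y J N E hX
  have := CC.fin
  obtain ⟨F, iF, iF2, hF, ⟨φ⟩⟩ := id hX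
  obtain ⟨π, C, hker⟩ := exists_ce hF φ
  have hperf : commutator ↥N = ⊤ := E.quasi.1.commutator_eq_top
  have hcenter : ∀ k : ↥N, π k = 1 ↔ k ∈ center ↥N := fun k => by rw [← hker, MonoidHom.mem_ker]
  set α := auto t N E.inv with hα
  have hne : J.subgroupOf N ≠ ⊤ := by
    intro h1
    rw [subgroupOf_eq_top] at h1
    exact absurd h1 (not_le_of_gt E.lt)
  have hmem : (⟨y, E.yN⟩ : ↥N) ∈ J.subgroupOf N := E.mem
  obtain ⟨hb2, -, -⟩ := descend E.quasi (auto_mul E.ht E.inv) E.compSub hne hmem E.orderY E.center E.sl'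
  have hα1 : α ≠ 1 := by
    intro h
    rw [← hα, h, bar_one, orderOf_one] at hb2
    exact absurd hb2 (by decide)
  obtain ⟨K, iK, iK2, hK, -, ⟨f⟩⟩ := E.sl'
  have hyJ : orderOf (⟨⟨y, E.yN⟩, hmem⟩ : ↥(J.subgroupOf N)) = 2 := by
    rw [Subgroup.orderOf_mk]; exact E.orderY
  obtain ⟨e, e', o, h1, h2, h3, h4, h5⟩ := exists_elts hK f hyJ
  have hfix : ∀ x : ↥(J.subgroupOf N), α (x : ↥N) = x := fun x => mem_fix.mp (E.compSub.le x.2)
  have hsq : ∀ x : ↥(J.subgroupOf N), (x * x = 1 ∨ x * x = ⟨⟨y, E.yN⟩, hmem⟩) →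
      π (x : ↥N) * π (x : ↥N) = 1 := by
    intro x hx
    rw [← map_mul, hcenter]
    rcases hx with hx | hx
    · have h6 := congrArg (Subtype.val) hx
      change (x : ↥N) * x = 1 at h6
      rw [h6]; exact one_mem _
    · have h6 := congrArg (Subtype.val) hx
      change (x : ↥N) * x = ⟨y, E.yN⟩ at h6
      rw [h6]; exact E.center
  have hcm : cm (e : ↥N) (e' : ↥N) = ⟨y, E.yN⟩ := congrArg Subtype.val h3
  have hy1 : (⟨y, E.yN⟩ : ↥N) ≠ 1 := by
    intro h
    have h6 := E.orderY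
    rw [h, orderOf_one] at h6
    exact absurd h6 (by decide)
  have hyy : (⟨y, E.yN⟩ : ↥N) * ⟨y, E.yN⟩ = 1 := by
    have h6 := pow_orderOf_eq_one (⟨y, E.yN⟩ : ↥N)
    rwa [E.orderY, pow_two] at h6
  obtain ⟨a, ha, hv, ha4⟩ := core C hperf (fun k hk => (hcenter k).mpr (mem_center_iff.mpr fun m => (hk m).symm))
    (auto_mul E.ht E.inv) hα1 (hfix e) (hfix e') (hfix o) (hsq e h1) (hsq e' h2)
    (by rw [hcm, hcenter]; exact E.center) (by rw [hcm]; exact hy1)
    (by
      have h6 := congrArg Subtype.val h4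
      change (o : ↥N) ^ 3 = 1 at h6
      rw [← map_pow, h6, map_one])
    (by
      intro h
      apply h5
      apply Subtype.ext
      rw [hcenter, mem_center_iff] at h
      exact (h e).symm)
  rw [hcm] at hv
  have haZ := (hcenter a).mp ha
  refine h44 G CC y N E.hy E.compN E.yN hX ⟨a, α a, haZ, ?_, ha4, ?_, ?_, ?_⟩
  · rw [← map_center α]
    exact mem_map_of_mem _ haZ
  · intro h
    rw [h, map_one, one_mul] at hv
    exact hy1 hv.symm
  · intro h
    have h6 : a * a = ⟨y, E.yN⟩ := Subtype.ext h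
    rw [h6, hyy, hfix ⟨⟨y, E.yN⟩, hmem⟩] at hv
    exact hy1 hv
  · have h6 : α a * α a = a * a * ⟨y, E.yN⟩ := by rw [← map_mul, hv]
    exact congrArg Subtype.val h6

end Cfsg.Agent.OddHalf.NI.Ex.L34

end
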